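import Cfsg.Agent.SolvLinear.ModP

/-!
Classes modulo the Fitting subgroup of a solvable linear group without normal `p`-subgroup.
-/

set_option autoImplicit false
set_option linter.unusedSectionVars false
set_option linter.style.haveILetI false

namespace Cfsg.Lib.SolvBlockCount

open Cfsg.Lib.OddBase Cfsg.Lib.SolvLinear

universe u

/-- Completely reducible modules for the two factors give one for the sum. -/
theorem cr_prod {X W₁ W₂ X₁ X₂ : Type u} [Group X] [Group X₁] [Group X₂] [AddCommGroup W₁] [AddCommGroup W₂]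
    [DistribMulAction X₁ W₁] [DistribMulAction X₂ W₂] [DistribMulAction X (W₁ × W₂)]
    (g₁ : X →* X₁) (g₂ : X →* X₂) (hg₁ : Function.Surjective g₁) (hg₂ : Function.Surjective g₂)
    (hs : ∀ (x : X) (w : W₁ × W₂), x • w = (g₁ x • w.1, g₂ x • w.2))
    (h₁ : CR X₁ W₁) (h₂ : CR X₂ W₂) : CR X (W₁ × W₂) := by
  intro S hS
  obtain ⟨R₁, hR₁, hS₁, hS₁'⟩ := h₁ (S.comap (AddMonoidHom.inl W₁ W₂)) (by
    intro a v hv
    obtain ⟨x, rfl⟩ := hg₁ a
    have := hS x _ hv
    rw [hs] at this
    simpa using this)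
  obtain ⟨R₂, hR₂, hS₂, hS₂'⟩ := h₂ (S.map (AddMonoidHom.snd W₁ W₂)) (by
    rintro a _ ⟨w, hw, rfl⟩
    obtain ⟨x, rfl⟩ := hg₂ a
    exact ⟨x • w, hS x w hw, by rw [hs]; rfl⟩)
  refine ⟨R₁.prod R₂, ?_, ?_, ?_⟩
  · intro x w hw
    rw [hs]
    exact ⟨hR₁ _ _ hw.1, hR₂ _ _ hw.2⟩
  · rw [eq_bot_iff]
    rintro ⟨a, b⟩ ⟨hwS, hwR⟩
    have hb : b ∈ S.map (AddMonoidHom.snd W₁ W₂) ⊓ R₂ := ⟨⟨_, hwS, rfl⟩, hwR.2⟩
    rw [hS₂, AddSubgroup.mem_bot] at hb
    subst hb
    have ha : a ∈ S.comap (AddMonoidHom.inl W₁ W₂) ⊓ R₁ := ⟨hwS, hwR.1⟩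
    rw [hS₁, AddSubgroup.mem_bot] at ha
    subst ha
    exact rfl
  · rw [eq_top_iff]
    rintro ⟨a, b⟩ -
    obtain ⟨_, ⟨⟨c, s₂⟩, hs₂, rfl⟩, r₂, hr₂, hb⟩ := AddSubgroup.mem_sup.1
      (show b ∈ S.map (AddMonoidHom.snd W₁ W₂) ⊔ R₂ from hS₂' ▸ AddSubgroup.mem_top _)
    obtain ⟨s₁, hs₁, r₁, hr₁, ha⟩ := AddSubgroup.mem_sup.1
      (show a - c ∈ S.comap (AddMonoidHom.inl W₁ W₂) ⊔ R₁ from hS₁' ▸ AddSubgroup.mem_top _)
    refine AddSubgroup.mem_sup.2 ⟨(s₁, 0) + (c, s₂), add_mem hs₁ hs₂, (r₁, r₂), ⟨hr₁, hr₂⟩, ?_⟩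
    refine Prod.ext ?_ ?_
    · change s₁ + c + r₁ = a
      rw [add_right_comm, ha, sub_add_cancel]
    · change 0 + s₂ + r₂ = b
      rw [zero_add]
      exact hb

/-- An element of order prime to `p` acting trivially on a subgroup and on its quotient acts trivially. -/
theorem smul_eq_of_coprime {A V : Type u} [Group A] [AddCommGroup V] [DistribMulAction A V] {p : ℕ}
    (hp : p.Prime) (hexp : ∀ v : V, p • v = 0) {a : A} (ha : ¬ p ∣ orderOf a) (U : AddSubgroup V)
    (hU : ∀ u ∈ U, a • u = u) (hQ : ∀ v : V, a • v - v ∈ U) (v : V) : a • v = v := by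
  set u := a • v - v with hu
  have h1 : ∀ k : ℕ, a ^ k • v = v + k • u := by
    intro k
    induction k with
    | zero => simp
    | succ k ih =>
      rw [pow_succ', mul_smul, ih, smul_add, hU _ (nsmul_mem (hQ v) k), succ_nsmul, hu]
      abel
  have h2 : (orderOf a) • u = 0 := by
    have := h1 (orderOf a)
    rw [pow_orderOf_eq_one, one_smul] at this
    exact left_eq_add.1 this
  have h3 : addOrderOf u ∣ Nat.gcd (orderOf a) p :=
    Nat.dvd_gcd (addOrderOf_dvd_of_nsmul_eq_zero h2) (addOrderOf_dvd_of_nsmul_eq_zero (hexp u))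
  rw [show Nat.gcd (orderOf a) p = 1 from (hp.coprime_iff_not_dvd.2 ha).symm, Nat.dvd_one,
    AddMonoid.addOrderOf_eq_one_iff, hu, sub_eq_zero] at h3
  exact h3

/-- A completely reducible model with the same order. -/
theorem exists_cr_model {p : ℕ} [Fact p.Prime] : ∀ (n : ℕ) (A V : Type u) [Group A] [Finite A]
    [Group.IsSolvable A] [AddCommGroup V] [Finite V] [DistribMulAction A V],
    (∀ v : V, p • v = 0) → Nat.card V ≤ n →
    ∃ (W X : Type u) (_ : AddCommGroup W) (_ : Finite W) (_ : Group X) (_ : Finite X)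
      (_ : Group.IsSolvable X) (_ : DistribMulAction X W) (f : A →* X),
      Function.Surjective f ∧ FaithfulSMul X W ∧ CR X W ∧ Nat.card W = Nat.card V ∧ (∀ w : W, p • w = 0) ∧
      ∀ a : A, ¬ p ∣ orderOf a → f a = 1 → ∀ v : V, a • v = v := by
  intro n
  induction n using Nat.strong_induction_on with
  | _ n ih =>
  intro A V _ _ _ _ _ _ hexp hn
  classical
  by_cases hirr : Irr A V
  · obtain ⟨X, _, _, _, _, f, hfX, hcX, hf⟩ := exists_restrict (cr_of_irr hirr) (⊤ : AddSubgroup V)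
      (fun _ _ _ => trivial)
    let f' := f.rangeRestrict
    haveI := hfX
    refine ⟨(⊤ : AddSubgroup V), f.range, inferInstance, inferInstance, inferInstance, inferInstance,
      inferInstance, inferInstance, f', f.rangeRestrict_surjective, ?_, ?_, AddSubgroup.card_top,
      fun w => Subtype.ext (hexp w), fun a _ ha v => ?_⟩
    · exact ⟨fun {x y} h => Subtype.ext (eq_of_smul_eq_smul fun w => h w)⟩
    · refine cr_of_irr fun S hS => ?_
      rcases hirr (S.map (⊤ : AddSubgroup V).subtype) (by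
        rintro a _ ⟨x, hx, rfl⟩
        exact ⟨f a • x, hS ⟨f a, a, rfl⟩ x hx, hf a x⟩) with h | h
      · exact Or.inl ((AddSubgroup.map_eq_bot_iff_of_injective S Subtype.val_injective).1 h)
      · refine Or.inr (eq_top_iff.2 fun x _ => ?_)
        obtain ⟨y, hy, hyx⟩ : (x : V) ∈ S.map (⊤ : AddSubgroup V).subtype := by rw [h]; exact AddSubgroup.mem_top _
        rwa [← Subtype.ext (a1 := y) (a2 := x) hyx]
    · have h1 := hf a ⟨v, trivial⟩
      rw [show f a = 1 from congrArg Subtype.val ha, one_smul] at h1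
      exact h1.symm
  simp only [Irr, not_forall, not_or] at hirr
  obtain ⟨U, hU, hU0, hU1⟩ := hirr
  letI : DistribMulAction A U :=
    { smul := fun a x => ⟨a • (x : V), hU a x x.2⟩
      one_smul := fun x => Subtype.ext (one_smul A (x : V))
      mul_smul := fun a b x => Subtype.ext (mul_smul a b (x : V))
      smul_zero := fun a => Subtype.ext (smul_zero a)
      smul_add := fun a x y => Subtype.ext (smul_add a (x : V) y) }
  let q : A → (V ⧸ U) →+ (V ⧸ U) := fun a =>
    QuotientAddGroup.map U U (DistribSMul.toAddMonoidHom V a) fun x hx => hU a x hx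
  letI : DistribMulAction A (V ⧸ U) :=
    { smul := fun a x => q a x
      one_smul := fun x => QuotientAddGroup.induction_on x fun v => congrArg QuotientAddGroup.mk (one_smul A v)
      mul_smul := fun a b x => QuotientAddGroup.induction_on x fun v =>
        congrArg QuotientAddGroup.mk (mul_smul a b v)
      smul_zero := fun a => map_zero (q a)
      smul_add := fun a x y => map_add (q a) x y }
  have hmul : Nat.card (V ⧸ U) * Nat.card U = Nat.card V :=
    (AddSubgroup.card_eq_card_quotient_mul_card_addSubgroup U).symm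
  have hU2 : 1 < Nat.card U := by
    haveI := (AddSubgroup.nontrivial_iff_ne_bot U).2 hU0
    exact Finite.one_lt_card
  have hUlt : Nat.card U < Nat.card V := lt_of_le_of_ne
    (Nat.card_le_card_of_injective _ Subtype.val_injective) fun he => hU1 (AddSubgroup.eq_top_of_card_eq U he)
  have hQlt : Nat.card (V ⧸ U) < Nat.card V := by
    rw [← hmul]
    exact lt_mul_of_one_lt_right Nat.card_pos hU2
  obtain ⟨W₁, X₁, _, _, _, _, _, _, f₁, hf₁, hF₁, hC₁, hW₁, he₁, hk₁⟩ :=
    ih _ (lt_of_lt_of_le hUlt hn) A U (fun x => Subtype.ext (hexp x)) le_rfl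
  obtain ⟨W₂, X₂, _, _, _, _, _, _, f₂, hf₂, hF₂, hC₂, hW₂, he₂, hk₂⟩ :=
    ih _ (lt_of_lt_of_le hQlt hn) A (V ⧸ U) (fun x => QuotientAddGroup.induction_on x fun v => by
      change p • ((v : V ⧸ U)) = 0
      rw [← QuotientAddGroup.mk_nsmul, hexp, QuotientAddGroup.mk_zero]) le_rfl
  let f := (f₁.prod f₂).rangeRestrict
  let X := (f₁.prod f₂).range
  letI : DistribMulAction X (W₁ × W₂) :=
    { smul := fun x w => ((x : X₁ × X₂).1 • w.1, (x : X₁ × X₂).2 • w.2)
      one_smul := fun w => Prod.ext (one_smul X₁ w.1) (one_smul X₂ w.2)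
      mul_smul := fun x y w => Prod.ext (mul_smul (x : X₁ × X₂).1 (y : X₁ × X₂).1 w.1)
        (mul_smul (x : X₁ × X₂).2 (y : X₁ × X₂).2 w.2)
      smul_zero := fun x => Prod.ext (smul_zero _) (smul_zero _)
      smul_add := fun x v w => Prod.ext (smul_add _ _ _) (smul_add _ _ _) }
  haveI : Finite X := Finite.of_surjective _ (f₁.prod f₂).rangeRestrict_surjective
  haveI : Group.IsSolvable X := Group.isSolvable_of_surjective (f₁.prod f₂).rangeRestrict_surjective
  refine ⟨W₁ × W₂, X, inferInstance, inferInstance, inferInstance, inferInstance, inferInstance,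
    inferInstance, f, (f₁.prod f₂).rangeRestrict_surjective, ?_, ?_, ?_, ?_, fun a hao ha v => ?_⟩
  · refine ⟨fun {x y} h => Subtype.ext (Prod.ext ?_ ?_)⟩
    · haveI := hF₁
      exact eq_of_smul_eq_smul fun w => congrArg Prod.fst (h (w, 0))
    · haveI := hF₂
      exact eq_of_smul_eq_smul fun w => congrArg Prod.snd (h (0, w))
  · exact cr_prod ((MonoidHom.fst X₁ X₂).comp X.subtype) ((MonoidHom.snd X₁ X₂).comp X.subtype)
      (fun z => by obtain ⟨a, rfl⟩ := hf₁ z; exact ⟨f a, rfl⟩)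
      (fun z => by obtain ⟨a, rfl⟩ := hf₂ z; exact ⟨f a, rfl⟩) (fun _ _ => rfl) hC₁ hC₂
  · rw [Nat.card_prod, hW₁, hW₂, mul_comm, hmul]
  · exact fun w => Prod.ext (he₁ w.1) (he₂ w.2)
  · have ha' : f₁.prod f₂ a = 1 := congrArg Subtype.val ha
    have h1 := hk₁ a hao (congrArg Prod.fst ha')
    have h2 := hk₂ a hao (congrArg Prod.snd ha')
    exact smul_eq_of_coprime Fact.out hexp hao U (fun u hu => congrArg Subtype.val (h1 ⟨u, hu⟩))
      (fun w => (QuotientAddGroup.eq_iff_sub_mem).1 (h2 (w : V ⧸ U))) v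

/-- The bound. -/
theorem classes_mod_fitting_le {A V : Type u} [Group A] [Finite A] [Group.IsSolvable A] [AddCommGroup V]
    [Finite V] [Nontrivial V] [DistribMulAction A V] [FaithfulSMul A V] {p r : ℕ} [hp : Fact p.Prime]
    (hexp : ∀ v : V, p • v = 0) (hcard : Nat.card V = p ^ r)
    (hop : ∀ P : Subgroup A, P.Normal → IsPGroup p P → P = ⊥) :
    Nat.card (ConjClasses (A ⧸ Cfsg.fittingSubgroup A)) ≤ 3 ^ (r - 1) := by
  classical
  obtain ⟨W, X, _, _, _, _, _, _, f, hfs, hF, hC, hW, he, hk⟩ := exists_cr_model _ A V hexp le_rfl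
  have hker : f.ker = ⊥ := by
    refine hop _ inferInstance fun x => ?_
    obtain ⟨k, hk'⟩ : ∃ k, orderOf (x : A) = p ^ k := by
      refine ⟨(orderOf (x : A)).factorization p, ?_⟩
      by_contra hne
      set o := orderOf (x : A)
      have ho : 0 < o := orderOf_pos _
      have hy : ¬ p ∣ orderOf ((x : A) ^ (p ^ o.factorization p)) := by
        rw [orderOf_pow_of_dvd (pow_ne_zero _ hp.out.ne_zero) (Nat.ordProj_dvd o p)]
        exact Nat.not_dvd_ordCompl hp.out ho.ne'
      have h1 : (x : A) ^ (p ^ o.factorization p) = 1 := eq_of_smul_eq_smul fun v : V => by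
        rw [one_smul]
        exact hk _ hy (by rw [map_pow, MonoidHom.mem_ker.1 x.2, one_pow]) v
      exact hne (Nat.dvd_antisymm (orderOf_dvd_of_pow_eq_one h1) (Nat.ordProj_dvd o p))
    exact ⟨k, Subtype.ext (by rw [SubmonoidClass.coe_pow, ← hk', pow_orderOf_eq_one]; rfl)⟩
  have hfi : Function.Injective f := (MonoidHom.ker_eq_bot_iff f).1 hker
  haveI := hF
  haveI : Nontrivial W := Finite.one_lt_card_iff_nontrivial.1 (by rw [hW]; exact Finite.one_lt_card)
  letI : Module (ZMod p) W := AddCommGroup.zmodModule (n := p) he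
  let sc : (ZMod p)ˣ →* (AddMonoid.End W)ˣ := (DistribMulAction.toAddMonoidEnd (ZMod p)ˣ W).toHomUnits
  let ac : A →* (AddMonoid.End W)ˣ := ((DistribMulAction.toAddMonoidEnd X W).comp f).toHomUnits
  have hcomm : ∀ (a : A) (c : (ZMod p)ˣ) (w : W), f a • c • w = c • f a • w := fun a c w => by
    change DistribSMul.toAddMonoidHom W (f a) ((c : ZMod p) • w) = (c : ZMod p) • (f a • w)
    rw [← ZMod.natCast_zmod_val (c : ZMod p), Nat.cast_smul_eq_nsmul, map_nsmul, Nat.cast_smul_eq_nsmul]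
    rfl
  let φ : A × (ZMod p)ˣ →* (AddMonoid.End W)ˣ :=
    MonoidHom.mk' (fun t => ac t.1 * sc t.2) fun s t => Units.ext (AddMonoidHom.ext fun w => by
      change f (s.1 * t.1) • (s.2 * t.2) • w = f s.1 • s.2 • f t.1 • t.2 • w
      rw [map_mul, mul_smul, mul_smul, ← hcomm t.1 s.2])
  let Y := φ.range
  haveI : Finite Y := Finite.of_surjective _ φ.rangeRestrict_surjective
  haveI : Group.IsSolvable Y := Group.isSolvable_of_surjective φ.rangeRestrict_surjective
  letI : DistribMulAction Y W :=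
    { smul := fun k x => ((k : (AddMonoid.End W)ˣ) : AddMonoid.End W) x
      one_smul := fun _ => rfl
      mul_smul := fun _ _ _ => rfl
      smul_zero := fun k => map_zero ((k : (AddMonoid.End W)ˣ) : AddMonoid.End W)
      smul_add := fun k => map_add ((k : (AddMonoid.End W)ˣ) : AddMonoid.End W) }
  haveI : FaithfulSMul Y W := ⟨fun {_ _} h => Subtype.ext (Units.ext (AddMonoidHom.ext h))⟩
  have hYs : ∀ (t : A × (ZMod p)ˣ) (w : W), φ.rangeRestrict t • w = f t.1 • t.2 • w := fun _ _ => rfl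
  have hcr : CR Y W := by
    intro U hU
    obtain ⟨R, hR, h1, h2⟩ := hC U (fun x w hw => by
      obtain ⟨a, rfl⟩ := hfs x
      have := hU (φ.rangeRestrict (a, 1)) w hw
      rwa [hYs, one_smul] at this)
    refine ⟨R, fun y w hw => ?_, h1, h2⟩
    obtain ⟨t, rfl⟩ := φ.rangeRestrict_surjective y
    rw [hYs]
    refine hR _ _ ?_
    change (t.2 : ZMod p) • w ∈ R
    rw [← ZMod.natCast_zmod_val (t.2 : ZMod p), Nat.cast_smul_eq_nsmul]
    exact nsmul_mem hw _
  obtain ⟨c, hc⟩ := IsCyclic.exists_generator (α := (ZMod p)ˣ)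
  have hs : Scal Y W (p ^ 1) := by
    refine ⟨φ.rangeRestrict (1, c), ?_, ?_, ?_⟩
    · rw [Subgroup.mem_center_iff]
      intro a
      obtain ⟨t, rfl⟩ := φ.rangeRestrict_surjective a
      rw [← map_mul, ← map_mul]
      congr 1
      exact Prod.ext (by simp) (mul_comm _ _)
    · rw [← map_pow, pow_one, Prod.pow_mk, one_pow, ← ZMod.card_units p, pow_card_eq_one]
      exact map_one _
    · intro i hi w hw
      rw [← map_pow, hYs, Prod.pow_mk, one_pow, map_one, one_smul] at hw
      by_contra hw0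
      apply hi
      rw [pow_one, ← ZMod.card_units p, ← Nat.card_eq_fintype_card, ← orderOf_eq_card_of_forall_mem_zpowers hc]
      refine orderOf_dvd_of_pow_eq_one (Units.ext ?_)
      have h1 : (((c ^ i : (ZMod p)ˣ) : ZMod p) - 1) • w = 0 := by
        rw [sub_smul, one_smul, sub_eq_zero]
        exact hw
      exact sub_eq_zero.1 ((smul_eq_zero.1 h1).resolve_right hw0)
  have h := sb_linear hp.out one_ne_zero r Y W hs (by rw [one_mul, hW, hcard]) hcr
  let j : A →* Y := φ.rangeRestrict.comp (MonoidHom.inl A (ZMod p)ˣ)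
  have hj : Function.Injective j := fun a b hab => hfi (eq_of_smul_eq_smul fun w : W => by
    have h1 : φ.rangeRestrict (a, 1) • w = φ.rangeRestrict (b, 1) • w := congrArg (fun y : Y => y • w) hab
    rwa [hYs, hYs, one_smul] at h1)
  have hb : SB (A ⧸ Cfsg.fittingSubgroup A) (3 ^ (r - 1)) := by
    refine sb_fitting_of ((QuotientGroup.mk' (Cfsg.fittingSubgroup Y)).comp j) ?_ h
    haveI := Cfsg.Lib.Components.isNilpotent_fitting (G := Y)
    refine Cfsg.Lib.Components.le_fitting ?_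
    let k : ((QuotientGroup.mk' (Cfsg.fittingSubgroup Y)).comp j).ker →* Cfsg.fittingSubgroup Y :=
      MonoidHom.mk' (fun x => ⟨j x.1, (QuotientGroup.eq_one_iff _).1 x.2⟩)
        fun x y => Subtype.ext (map_mul j x.1 y.1)
    exact isNilpotent_of_injective k fun x y e => Subtype.ext (hj (congrArg
      (fun z : Cfsg.fittingSubgroup Y => (z : Y)) e))
  refine le_trans ?_ (hb ⊤)
  exact card_classes_map_le (Subgroup.topEquiv (G := A ⧸ Cfsg.fittingSubgroup A)).toMonoidHom
    (MulEquiv.surjective _)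

end Cfsg.Lib.SolvBlockCount
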