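import Cfsg.Agent.SolvBlockCount.FormVector
import Cfsg.Agent.SolvBlockCount.Linear
import Cfsg.Agent.S4959
import Cfsg.Agent.S4201
import Cfsg.Agent.Coprime.Fitting
import Cfsg.Agent.HallHigman.Complemented
import Cfsg.Agent.Blocks.TransPPower
import Cfsg.Agent.Components.Misc.BenderPair
import Cfsg.Agent.PGroups.Basic

/-!
The class number of a solvable group with trivial `p'`-core.
-/

set_option autoImplicit false
set_option linter.unusedSectionVars false
set_option linter.style.haveILetI false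

namespace Cfsg.Lib.SolvBlockCount

open Cfsg.Lib.OddBase Cfsg.Lib.SolvLinear Subgroup
open scoped commutatorElement

universe u

/-- The class number is at most kernel times image. -/
theorem classes_le_ker_mul {G H : Type u} [Group G] [Finite G] [Group H] [Finite H] (f : G →* H)
    (hf : Function.Surjective f) :
    Nat.card (ConjClasses G) ≤ Nat.card (ConjClasses f.ker) * Nat.card (ConjClasses H) := by
  refine (Cfsg.Agent.S4201.result f.ker).trans (Nat.mul_le_mul_left _ ?_)
  let e := QuotientGroup.quotientKerEquivOfSurjective f hf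
  exact card_classes_map_le e.symm.toMonoidHom e.symm.surjective

theorem classes_le_card (G : Type u) [Group G] [Finite G] : Nat.card (ConjClasses G) ≤ Nat.card G :=
  Nat.card_le_card_of_surjective ConjClasses.mk Quotient.mk_surjective

/-- The coprime nilpotent case. -/
theorem classes_le_card_of_nilpotent {Y : Type u} [Group Y] [Finite Y] (p : ℕ) [Fact p.Prime]
    (V : Subgroup Y) [V.Normal] (hexp : ∀ v ∈ V, v ^ p = 1) (hidx : ¬ p ∣ V.index)
    (hself : centralizer (V : Set Y) = V) (hnil : Group.IsNilpotent (Y ⧸ V)) :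
    Nat.card (ConjClasses Y) ≤ Nat.card V := by
  classical
  haveI hab : IsMulCommutative V := ⟨⟨fun a b => Subtype.ext
    (Subgroup.mem_centralizer_iff.1 (hself.ge b.2) a a.2)⟩⟩
  letI : CommGroup V := { (inferInstance : Group V) with mul_comm := hab.is_comm.comm }
  have hco : (Nat.card V).Coprime V.index := by
    obtain ⟨k, hk⟩ := IsPGroup.iff_card.1
      (show IsPGroup p V from fun v => ⟨1, Subtype.ext (by rw [pow_one]; exact hexp v v.2)⟩)
    rw [hk]
    exact Nat.Coprime.pow_left _ ((Fact.out : p.Prime).coprime_iff_not_dvd.2 hidx)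
  obtain ⟨G, hG⟩ := Subgroup.exists_right_complement'_of_coprime (N := V) hco
  have hinj : Function.Injective ((QuotientGroup.mk' V).comp G.subtype) := by
    refine (injective_iff_map_eq_one _).2 fun g hg => Subtype.ext ?_
    have h1 : (g : Y) ∈ V ⊓ G := ⟨(QuotientGroup.eq_one_iff _).1 hg, g.2⟩
    rw [hG.disjoint.eq_bot, Subgroup.mem_bot] at h1
    exact h1
  haveI : Group.IsNilpotent G := isNilpotent_of_injective _ hinj
  letI : DistribMulAction G (Additive V) :=
    { smul := fun g x => Additive.ofMul (MulAut.conjNormal (g : Y) (Additive.toMul x))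
      one_smul := fun x => by
        change Additive.ofMul (MulAut.conjNormal ((1 : G) : Y) (Additive.toMul x)) = x
        rw [Subgroup.coe_one, map_one]
        rfl
      mul_smul := fun a b x => by
        change Additive.ofMul (MulAut.conjNormal ((a * b : G) : Y) (Additive.toMul x)) = _
        rw [Subgroup.coe_mul, map_mul]
        rfl
      smul_zero := fun g => congrArg Additive.ofMul (map_one (MulAut.conjNormal (g : Y)))
      smul_add := fun g x y => congrArg Additive.ofMul (map_mul (MulAut.conjNormal (g : Y)) _ _) }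
  have hsm : ∀ (g : G) (x : Additive V), ((Additive.toMul (g • x) : V) : Y) =
      g * (Additive.toMul x : V) * (g : Y)⁻¹ := fun g x => MulAut.conjNormal_apply (G := Y) _ _
  haveI : FaithfulSMul G (Additive V) := ⟨fun {a b} h => by
    apply hinj
    change ((a : Y) : Y ⧸ V) = ((b : Y) : Y ⧸ V)
    rw [QuotientGroup.eq, ← SetLike.mem_coe, ← hself]
    refine Subgroup.mem_centralizer_iff.2 fun v hv => ?_
    have h1 := congrArg (fun x : Additive V => ((Additive.toMul x : V) : Y)) (h (Additive.ofMul ⟨v, hv⟩))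
    simp only [hsm, toMul_ofMul] at h1
    calc v * ((a : Y)⁻¹ * b) = (a : Y)⁻¹ * ((a : Y) * v * (a : Y)⁻¹) * b := by group
      _ = (a : Y)⁻¹ * b * v := by rw [h1]; group⟩
  have hexp' : ∀ x : Additive V, p • x = 0 := fun x => by
    apply Additive.toMul.injective
    rw [toMul_nsmul, toMul_zero]
    exact Subtype.ext (hexp _ (Additive.toMul x).2)
  have hcoG : ¬ p ∣ Nat.card G := fun h => hidx (by
    rw [hG.symm.index_eq_card]
    exact h)
  obtain ⟨v, β, hnd, hinv⟩ := hasFormVector _ G (Additive V) hexp' hcoG le_rfl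
  let β' : Y → Y → ZMod p := fun x y =>
    if h : x ∈ V ∧ y ∈ V then β (Additive.ofMul ⟨x, h.1⟩) (Additive.ofMul ⟨y, h.2⟩) else 0
  have hβ' : ∀ (x y : V), β' x y = β (Additive.ofMul x) (Additive.ofMul y) := fun x y => by
    simp only [β', SetLike.coe_mem, and_self, dif_pos]
  have hfix : ∀ h ∈ G, h * ((Additive.toMul v : V) : Y) * h⁻¹ = ((Additive.toMul v : V) : Y) →
      ∀ g : G, (g : Y) = h → g • v = v := fun h _ hv g hg => by
    apply Additive.toMul.injective
    apply Subtype.ext
    rw [hsm, hg, hv]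
  refine Cfsg.Agent.S4959.result p V hexp hidx hself G hG (Additive.toMul v : V) (Additive.toMul v).2 V le_rfl
    (fun h _ _ u hu => (inferInstance : V.Normal).conj_mem u hu h) (fun h hh _ hu => ?_) β'
    (fun x hx y hy z hz => ?_) (fun x hx y hy z hz => ?_) (fun h hh hv x hx y hy => ?_) (fun x hx h0 => ?_)
  · have h1 : (h : Y) ∈ V ⊓ G := ⟨hself.le (Subgroup.mem_centralizer_iff.2 fun u hu' => by
      have := hu u hu'
      rw [mul_inv_eq_iff_eq_mul] at this
      exact this.symm), hh⟩
    rw [hG.disjoint.eq_bot, Subgroup.mem_bot] at h1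
    exact h1
  · rw [show x * y = ((⟨x, hx⟩ * ⟨y, hy⟩ : V) : Y) from rfl, hβ' _ ⟨z, hz⟩, hβ' ⟨x, hx⟩ ⟨z, hz⟩,
      hβ' ⟨y, hy⟩ ⟨z, hz⟩, ofMul_mul, map_add, AddMonoidHom.add_apply]
  · rw [show y * z = ((⟨y, hy⟩ * ⟨z, hz⟩ : V) : Y) from rfl, hβ' ⟨x, hx⟩, hβ' ⟨x, hx⟩ ⟨z, hz⟩,
      hβ' ⟨x, hx⟩ ⟨y, hy⟩, ofMul_mul, map_add]
  · have h1 := hinv ⟨h, hh⟩ (hfix h hh hv _ rfl) (Additive.ofMul ⟨x, hx⟩) (Additive.ofMul ⟨y, hy⟩)
    rw [← hβ' ⟨x, hx⟩ ⟨y, hy⟩, ← ofMul_toMul (_ • Additive.ofMul (⟨x, hx⟩ : V)),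
      ← ofMul_toMul (_ • Additive.ofMul (⟨y, hy⟩ : V)), ← hβ'] at h1
    rw [hsm, hsm] at h1
    exact h1
  · have h1 := hnd (Additive.ofMul ⟨x, hx⟩) fun y => by
      have := h0 _ (Additive.toMul y : V).2
      rwa [hβ' ⟨x, hx⟩] at this
    exact congrArg (fun z : Additive V => ((Additive.toMul z : V) : Y)) h1

/-- The bound for solvable groups with trivial `p'`-core. -/
theorem classes_le_of_core_trivial {X : Type u} [Group X] [Finite X] [Group.IsSolvable X] (p : ℕ)
    [hp : Fact p.Prime] (hcore : Cfsg.pPrimeCore p X = ⊥) :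
    Nat.card (ConjClasses X) ≤
      3 ^ ((Nat.card X).factorization p - 1) * p ^ (Nat.card X).factorization p := by
  classical
  set d := (Nat.card X).factorization p with hd
  set Q := Cfsg.pCore p X with hQdef
  haveI hQn : Q.Normal := Cfsg.Lib.Components.pCore_normal' p
  have hQp : IsPGroup p Q := Cfsg.Lib.Components.isPGroup_pCore p
  rcases eq_or_ne Q ⊥ with hQ | hQ
  · have h1 := Cfsg.Lib.Coprime.centralizer_pCore_le (G := X) p hcore
    rw [← hQdef, hQ] at h1
    have h2 : ∀ x : X, x = 1 := fun x => Subgroup.mem_bot.1 (h1 (Subgroup.mem_centralizer_iff.2 fun y hy => by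
      rw [SetLike.mem_coe, Subgroup.mem_bot] at hy
      rw [hy, one_mul, mul_one]))
    haveI : Subsingleton X := ⟨fun a b => (h2 a).trans (h2 b).symm⟩
    refine (classes_le_card X).trans ?_
    rw [Nat.card_of_subsingleton (1 : X)]
    exact Nat.one_le_iff_ne_zero.2 (mul_ne_zero (pow_ne_zero _ three_ne_zero) (pow_ne_zero _ hp.out.ne_zero))
  set Φ : Subgroup X := (frattini Q).map Q.subtype with hΦdef
  haveI : Φ.Normal := ConjAct.normal_of_characteristic_of_normal
  set π := QuotientGroup.mk' Φ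
  have hπ : Function.Surjective π := QuotientGroup.mk'_surjective Φ
  set V := Q.map π
  haveI : V.Normal := Subgroup.Normal.map inferInstance _ hπ
  have hΦQ : Φ ≤ Q := Subgroup.map_subtype_le _
  have hVexp : ∀ v ∈ V, v ^ p = 1 := by
    rintro _ ⟨q, hq, rfl⟩
    rw [← map_pow]
    exact (QuotientGroup.eq_one_iff _).2 ⟨⟨q, hq⟩ ^ p, Cfsg.Lib.PGroups.pow_mem_frattini hQp _, rfl⟩
  have hVab : ∀ a ∈ V, ∀ b ∈ V, a * b = b * a := by
    rintro _ ⟨a, ha, rfl⟩ _ ⟨b, hb, rfl⟩
    rw [← map_mul, ← map_mul]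
    refine QuotientGroup.eq.2 ⟨(⟨b, hb⟩ : Q)⁻¹ * (⟨a, ha⟩ : Q)⁻¹ * ⟨b, hb⟩ * ⟨a, ha⟩, ?_, ?_⟩
    · have h1 : ⁅(⟨b, hb⟩ : Q)⁻¹, (⟨a, ha⟩ : Q)⁻¹⁆ ∈ commutator Q :=
        Subgroup.commutator_mem_commutator (Subgroup.mem_top _) (Subgroup.mem_top _)
      rw [commutatorElement_def, inv_inv, inv_inv] at h1
      exact Cfsg.Lib.PGroups.commutator_le_frattini hQp h1
    · simp [mul_assoc]
  let ψ : (X ⧸ Φ) →* MulAut V := MulAut.conjNormal
  have hψ : ψ.ker = V := by
    refine le_antisymm (fun y hy => ?_) fun y hy => MonoidHom.mem_ker.2 (MulEquiv.ext fun v => Subtype.ext ?_)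
    · obtain ⟨g, rfl⟩ := hπ y
      refine ⟨g, Cfsg.Lib.HallHigman.mem_pCore_of_centralizes_frattini
        (Cfsg.Lib.Blocks.isPSolvable_of_solvable inferInstance) hcore Φ rfl g fun a ha => ?_, rfl⟩
      have h1 : π g * π a * (π g)⁻¹ = π a := by
        have := congrArg Subtype.val (DFunLike.congr_fun (MonoidHom.mem_ker.1 hy) (⟨π a, a, ha, rfl⟩ : V))
        simpa [ψ] using this
      rw [← QuotientGroup.eq_one_iff (N := Φ)]
      change π (g * a * g⁻¹ * a⁻¹) = 1
      rw [map_mul, map_mul, map_mul, map_inv, map_inv, h1, mul_inv_cancel]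
    · change y * (v : X ⧸ Φ) * y⁻¹ = v
      rw [hVab y hy v v.2, mul_inv_cancel_right]
  haveI : Finite (MulAut V) := Finite.of_injective (fun e : MulAut V => (e : V → V)) DFunLike.coe_injective
  set H := ψ.range
  haveI : Group.IsSolvable H := Group.isSolvable_of_surjective (f := ψ.rangeRestrict.comp π)
    (ψ.rangeRestrict_surjective.comp hπ)
  set F := Cfsg.fittingSubgroup H with hFdef
  haveI : F.Normal := Cfsg.Lib.Components.fittingSubgroup_normal'
  -- no normal `p`-subgroup
  have hop : ∀ P : Subgroup H, P.Normal → IsPGroup p P → P = ⊥ := by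
    intro P hP hPp
    let g := ψ.rangeRestrict.comp π
    have hg : Function.Surjective g := ψ.rangeRestrict_surjective.comp hπ
    have hker : g.ker = Q := by
      rw [show g.ker = ψ.rangeRestrict.ker.comap π from (MonoidHom.comap_ker _ _).symm,
        MonoidHom.ker_rangeRestrict, hψ, Subgroup.comap_map_eq_self]
      rw [QuotientGroup.ker_mk']
      exact hΦQ
    have h1 : P.comap g ≤ Q := by
      haveI : (P.comap g).Normal := hP.comap g
      exact Cfsg.Lib.Components.le_pCore (hPp.comap_of_ker_isPGroup g (by rw [hker]; exact hQp))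
    rw [← Subgroup.map_comap_eq_self_of_surjective hg P, Subgroup.map_eq_bot_iff, hker]
    exact h1
  have hFp : ¬ p ∣ Nat.card F := fun hdvd => by
    obtain ⟨x, hx⟩ := exists_prime_orderOf_dvd_card' p hdvd
    have hx' : orderOf (x : H) = p := by rw [← hx]; exact Subgroup.orderOf_coe x
    have h1 : Subgroup.zpowers (x : H) ≤ Cfsg.pCore p H :=
      Cfsg.Lib.Misc.BenderPair.le_pCore_of_le_fitting (zpowers_le.2 x.2)
        (IsPGroup.of_card (n := 1) (by rw [Nat.card_zpowers, hx', pow_one]))
    rw [hop _ (Cfsg.Lib.Components.pCore_normal' p) (Cfsg.Lib.Components.isPGroup_pCore p), le_bot_iff,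
      Subgroup.zpowers_eq_bot] at h1
    rw [h1, orderOf_one] at hx'
    exact hp.out.one_lt.ne hx'
  haveI : Nontrivial V := by
    rw [Subgroup.nontrivial_iff_ne_bot]
    intro h
    rw [Subgroup.map_eq_bot_iff, QuotientGroup.ker_mk'] at h
    haveI := (Subgroup.nontrivial_iff_ne_bot Q).2 hQ
    have h2 : frattini Q = ⊤ := by
      rw [eq_top_iff]
      intro q _
      obtain ⟨r, hr, hrq⟩ := h q.2
      rwa [← Subtype.ext (a1 := r) (a2 := q) hrq]
    obtain ⟨M, hM, -⟩ := (eq_top_or_exists_le_coatom (⊥ : Subgroup Q)).resolve_left bot_ne_top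
    exact hM.1 (eq_top_iff.2 (h2 ▸ frattini_le_coatom hM))
  obtain ⟨n, hn⟩ := IsPGroup.iff_card.1
    (show IsPGroup p V from fun v => ⟨1, Subtype.ext (by rw [pow_one]; exact hVexp v v.2)⟩)
  obtain ⟨m, hm⟩ := IsPGroup.iff_card.1 hQp
  have hcardQ : Nat.card Φ * Nat.card V = p ^ m := by
    rw [← hm]
    have h1 := (Φ.subgroupOf Q).card_mul_index
    rw [Nat.card_congr (Subgroup.subgroupOfEquivOfLe hΦQ).toEquiv] at h1
    rw [show Nat.card V = (Φ.subgroupOf Q).index from ?_]
    · exact h1
    · let e : Q →* V := (π.comp Q.subtype).codRestrict V fun q => ⟨q, q.2, rfl⟩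
      have he : Function.Surjective e := fun ⟨_, q, hq, hv⟩ => ⟨⟨q, hq⟩, Subtype.ext hv⟩
      have hek : e.ker = Φ.subgroupOf Q := by
        ext q
        rw [MonoidHom.mem_ker, Subgroup.mem_subgroupOf]
        exact Subtype.ext_iff.trans (QuotientGroup.eq_one_iff _)
      rw [← hek, Subgroup.index_ker, MonoidHom.range_eq_top.2 he, Subgroup.card_top]
  have hmd : m ≤ d := by
    refine (hp.out.pow_dvd_iff_le_factorization Nat.card_pos.ne').1 ?_
    rw [← hm]
    exact Subgroup.card_subgroup_dvd_card Q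
  have hnm : n ≤ m := by
    refine (Nat.pow_dvd_pow_iff_le_right hp.out.one_lt).1 ?_
    rw [← hn, ← hcardQ]
    exact dvd_mul_left _ _
  -- the three factors
  let Y : Subgroup (X ⧸ Φ) := F.comap ψ.rangeRestrict
  haveI : Y.Normal := Subgroup.Normal.comap inferInstance _
  have hVY : V ≤ Y := fun v hv => by
    rw [Subgroup.mem_comap, show ψ.rangeRestrict v = 1 from Subtype.ext (by
      rw [MonoidHom.coe_rangeRestrict, MonoidHom.mem_ker.1 (hψ.ge hv)]; rfl)]
    exact one_mem F
  have hY : Nat.card (ConjClasses Y) ≤ Nat.card V := by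
    let V' := V.subgroupOf Y
    haveI : V'.Normal := Subgroup.Normal.subgroupOf inferInstance Y
    let g : Y →* F := (ψ.rangeRestrict.comp Y.subtype).codRestrict F fun y => y.2
    have hg : Function.Surjective g := fun x => by
      obtain ⟨y, hy⟩ := ψ.rangeRestrict_surjective (x : H)
      exact ⟨⟨y, Subgroup.mem_comap.2 (hy ▸ x.2)⟩, Subtype.ext hy⟩
    have hgk : g.ker = V' := by
      ext y
      rw [MonoidHom.mem_ker, Subgroup.mem_subgroupOf, (SetLike.ext_iff.1 hψ _).symm, MonoidHom.mem_ker]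
      exact Subtype.ext_iff.trans Subtype.ext_iff
    haveI := Cfsg.Lib.Components.isNilpotent_fitting (G := H)
    rw [← Nat.card_congr (Subgroup.subgroupOfEquivOfLe hVY).toEquiv]
    refine classes_le_card_of_nilpotent p V' (fun v hv => Subtype.ext (hVexp _ hv)) ?_ ?_ ?_
    · rw [← hgk, Subgroup.index_ker, MonoidHom.range_eq_top.2 hg, Subgroup.card_top]
      exact hFp
    · refine le_antisymm (fun y hy => ?_) fun y hy => Subgroup.mem_centralizer_iff.2 fun z hz =>
        Subtype.ext (hVab _ hz _ hy)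
      rw [Subgroup.mem_subgroupOf, (SetLike.ext_iff.1 hψ _).symm, MonoidHom.mem_ker]
      refine MulEquiv.ext fun v => Subtype.ext ?_
      change (y : X ⧸ Φ) * (v : X ⧸ Φ) * (y : X ⧸ Φ)⁻¹ = v
      have := congrArg Subtype.val
        (Subgroup.mem_centralizer_iff.1 hy ⟨(v : X ⧸ Φ), hVY v.2⟩ (Subgroup.mem_subgroupOf.2 v.2))
      simp only [Subgroup.coe_mul] at this
      rw [← this, mul_inv_cancel_right]
    · let e : Y ⧸ V' ≃* F := (QuotientGroup.quotientMulEquivOfEq hgk.symm).trans
        (QuotientGroup.quotientKerEquivOfSurjective g hg)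
      exact isNilpotent_of_injective e.toMonoidHom e.injective
  have hHF : Nat.card (ConjClasses ((X ⧸ Φ) ⧸ Y)) ≤ 3 ^ (n - 1) := by
    let g := (QuotientGroup.mk' F).comp ψ.rangeRestrict
    have hgk : g.ker = Y := by
      rw [show g.ker = (QuotientGroup.mk' F).ker.comap ψ.rangeRestrict from (MonoidHom.comap_ker _ _).symm,
        QuotientGroup.ker_mk']
    let e := (QuotientGroup.quotientMulEquivOfEq hgk.symm).trans
      (QuotientGroup.quotientKerEquivOfSurjective g ((QuotientGroup.mk'_surjective F).comp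
        ψ.rangeRestrict_surjective))
    refine (card_classes_map_le e.symm.toMonoidHom e.symm.surjective).trans ?_
    haveI : IsMulCommutative V := ⟨⟨fun a b => Subtype.ext (hVab a a.2 b b.2)⟩⟩
    letI : CommGroup V := { (inferInstance : Group V) with mul_comm := IsMulCommutative.is_comm.comm }
    letI : DistribMulAction H (Additive V) :=
      { smul := fun s x => Additive.ofMul ((s : MulAut V) (Additive.toMul x))
        one_smul := fun _ => rfl
        mul_smul := fun _ _ _ => rfl
        smul_zero := fun s => congrArg Additive.ofMul (map_one (s : MulAut V))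
        smul_add := fun s x y => congrArg Additive.ofMul (map_mul (s : MulAut V) _ _) }
    haveI : FaithfulSMul H (Additive V) := ⟨fun {s t} h => Subtype.ext (MulEquiv.ext fun x =>
      Additive.ofMul.injective (h (Additive.ofMul x)))⟩
    exact classes_mod_fitting_le (A := H) (V := Additive V) (p := p)
      (fun x => by
        apply Additive.toMul.injective
        rw [toMul_nsmul, toMul_zero]
        exact Subtype.ext (hVexp _ (Additive.toMul x).2))
      ((Nat.card_congr Additive.toMul).trans hn) hop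
  have h1 : Nat.card (ConjClasses (X ⧸ Φ)) ≤ Nat.card V * 3 ^ (n - 1) :=
    (Cfsg.Agent.S4201.result Y).trans (Nat.mul_le_mul hY hHF)
  calc Nat.card (ConjClasses X) ≤ Nat.card (ConjClasses π.ker) * Nat.card (ConjClasses (X ⧸ Φ)) :=
        classes_le_ker_mul π hπ
    _ ≤ Nat.card π.ker * (Nat.card V * 3 ^ (n - 1)) := Nat.mul_le_mul (classes_le_card _) h1
    _ = 3 ^ (n - 1) * (Nat.card Φ * Nat.card V) := by rw [QuotientGroup.ker_mk']; ring
    _ ≤ 3 ^ (d - 1) * p ^ d := by
      rw [hcardQ]
      exact Nat.mul_le_mul (Nat.pow_le_pow_right (by norm_num) (by omega))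
        (Nat.pow_le_pow_right hp.out.pos hmd)

end Cfsg.Lib.SolvBlockCount
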