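import Cfsg.Agent.SolvBlockCount.InvariantCount
import Cfsg.Agent.SolvBlockCount.GroupBound
import Cfsg.Agent.S4435
import Cfsg.Agent.S4492
import Cfsg.Agent.S4733
import Cfsg.Agent.Blocks.InducedPart

/-!
The block bound for solvable groups.
-/

set_option autoImplicit false
set_option linter.unusedSectionVars false
set_option linter.style.haveILetI false

namespace Cfsg.Lib.SolvBlockCount

open Cfsg.Lib.Blocks Cfsg.Lib.Chars

universe u

attribute [local instance high] Fintype.ofFinite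

/-- A block of a group of order prime to `p` is a point. -/
theorem block_subsingleton {N : Type u} [Group N] [Finite N] {p : ℕ} [Fact p.Prime] {M : Ideal Cfsg.AlgInt}
    (hM : Cfsg.IsPModular p M) (hN : ¬ p ∣ Nat.card N) {b : Set (Cfsg.IrrCharacter N)}
    (hb : Cfsg.IsPBlock M b) : b.Subsingleton := by
  have hd : Cfsg.blockDefect p b = 0 := by
    unfold Cfsg.blockDefect
    rw [Nat.factorization_eq_zero_of_not_dvd hN, Nat.zero_sub]
  have h := ((Cfsg.Agent.S4733.result p M hM b hb).2.1.1 hd).1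
  intro x hx y hy
  have : (⟨x, hx⟩ : b) = ⟨y, hy⟩ := by
    haveI : Subsingleton b := Finite.card_le_one_iff_subsingleton.1 h.le
    exact Subsingleton.elim _ _
  exact congrArg Subtype.val this

theorem block_bound : ∀ (n : ℕ) (G : Type u) [Group G] [Finite G] [Group.IsSolvable G] (p : ℕ) [Fact p.Prime]
    (M : Ideal Cfsg.AlgInt), Cfsg.IsPModular p M → ∀ B : Set (Cfsg.IrrCharacter G), Cfsg.IsPBlock M B →
    Nat.card G ≤ n →
    Nat.card B ≤ 3 ^ (Cfsg.blockDefect p B - 1) * p ^ Cfsg.blockDefect p B := by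
  intro n
  induction n using Nat.strong_induction_on with
  | _ n ih =>
  intro G _ _ _ p _ M hM B hB hn
  classical
  have hp : p.Prime := Fact.out
  set N := Cfsg.pPrimeCore p G with hNdef
  haveI hNn : N.Normal := Cfsg.Lib.Components.pPrimeCore_normal' p
  have hNc : (Nat.card N).Coprime p := Cfsg.Lib.Components.coprime_card_pPrimeCore p
  have hNp : ¬ p ∣ Nat.card N := hp.coprime_iff_not_dvd.1 hNc.symm
  have hsolv : Cfsg.IsPSolvable p G := Cfsg.Lib.Blocks.isPSolvable_of_solvable inferInstance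
  obtain ⟨χ, hχ⟩ := IsPBlock.nonempty hM hB
  obtain ⟨θ, hθ⟩ := exists_irr_constituent N χ
  set b := Cfsg.blockOf M (θ : N → ℂ)
  have hb : Cfsg.IsPBlock M b := isPBlock_blockOf θ
  have hθb : θ ∈ b := mem_blockOf_self hM θ
  have hbeq : ∀ ψ ∈ b, ψ = θ := fun ψ hψ => block_subsingleton hM hNp hb hψ hθb
  let T : Subgroup G :=
    { carrier := {g | cjIrr N g θ = θ}
      one_mem' := cjIrr_one N θ
      mul_mem' := fun {x y} hx hy => by
        change cjIrr N (x * y) θ = θ
        rw [cjIrr_mul, hx, hy]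
      inv_mem' := fun {x} hx => by
        change cjIrr N x⁻¹ θ = θ
        conv_lhs => rw [← (hx : cjIrr N x θ = θ)]
        rw [← cjIrr_mul, mul_inv_cancel, cjIrr_one] }
  by_cases hTtop : T = ⊤
  · have hinv : ∀ (g : G) (m : N),
        (θ : N → ℂ) ⟨g * m * g⁻¹, hNn.conj_mem m m.2 g⟩ = (θ : N → ℂ) m := fun g m => by
      have h1 : cjIrr N g θ = θ := (hTtop.ge (Subgroup.mem_top g) : g ∈ T)
      have h2 := congrFun (congrArg Subtype.val h1) m
      rw [cjIrr_val] at h2
      exact h2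
    obtain ⟨B', hB', hiff, hdef, -⟩ := Cfsg.Agent.S4492.result p M hM hsolv N rfl θ hinv
    have hBB : B = B' := IsPBlock.eq_of_mem_inter hM hB hB' hχ ((hiff χ).2 hθ)
    subst hBB
    have h1 : Nat.card B ≤ Nat.card (ConjClasses (G ⧸ N)) := by
      refine le_trans (le_of_eq ?_) (card_over_le θ hinv)
      exact Nat.card_congr (Equiv.subtypeEquivRight fun ψ => hiff ψ)
    obtain ⟨P⟩ := (inferInstance : Nonempty (Sylow p G))
    have hd : Cfsg.blockDefect p B = (Nat.card (G ⧸ N)).factorization p := by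
      refine Nat.pow_right_injective hp.two_le ?_
      change p ^ _ = p ^ _
      rw [← IsDefectGroup.card hM hB (hdef P), P.card_eq_multiplicity,
        Subgroup.card_eq_card_quotient_mul_card_subgroup N,
        Nat.factorization_mul Nat.card_pos.ne' Nat.card_pos.ne', Finsupp.add_apply,
        Nat.factorization_eq_zero_of_not_dvd hNp, add_zero]
    rw [hd]
    refine h1.trans (classes_le_of_core_trivial p ?_)
    rw [← Cfsg.Lib.Components.map_pPrimeCore_of_coprime_ker (QuotientGroup.mk'_surjective N)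
      (by rw [QuotientGroup.ker_mk']; exact hNc), ← hNdef, Subgroup.map_eq_bot_iff, QuotientGroup.ker_mk']
  have hNT : N ≤ T := fun x hx => by
    change cjIrr N x θ = θ
    refine Subtype.ext ?_
    rw [cjIrr_val]
    funext m
    exact (isClassFunction_irr θ) m ⟨x, hx⟩
  have hT : ∀ g : G, g ∈ T ↔ ∀ φ ∈ b, ∀ φ' : Cfsg.IrrCharacter N,
      (∀ m : N, (φ' : N → ℂ) m = (φ : N → ℂ) ⟨g * m * g⁻¹, hNn.conj_mem m m.2 g⟩) → φ' ∈ b := by
    intro g
    constructor
    · intro hg φ hφ φ' hφ'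
      rw [hbeq φ hφ] at hφ'
      have : φ' = cjIrr N g θ := Subtype.ext (by
        rw [cjIrr_val]
        funext m
        exact hφ' m)
      rw [this, (hg : cjIrr N g θ = θ)]
      exact hθb
    · intro h
      exact hbeq _ (h θ hθb (cjIrr N g θ) fun m => by rw [cjIrr_val]; rfl)
  obtain ⟨h1, -, h3⟩ := Cfsg.Agent.S4435.result p M hM N b hb T hT hNT
  obtain ⟨B', hB', hcov, hind⟩ := h3 B hB ⟨χ, hχ, θ, hθb, hθ⟩
  obtain ⟨B₂, hind₂, -, hirr, hiff⟩ := h1 B' hB' hcov
  obtain ⟨ψ₀, hψ₀⟩ := IsPBlock.nonempty hM hB'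
  have hBB : B₂ = B := by
    rw [eq_blockOf_of_induced hM hind hψ₀ ⟨_, hirr ψ₀ hψ₀⟩ rfl,
      eq_blockOf_of_induced hM hind₂ hψ₀ ⟨_, hirr ψ₀ hψ₀⟩ rfl]
  subst hBB
  have hcard : Nat.card B₂ ≤ Nat.card B' := by
    refine Nat.card_le_card_of_surjective
      (fun ψ : B' => (⟨⟨_, hirr ψ.1 ψ.2⟩, (hiff _).2 ⟨ψ.1, ψ.2, rfl⟩⟩ : B₂)) ?_
    rintro ⟨φ, hφ⟩
    obtain ⟨ψ, hψ, he⟩ := (hiff φ).1 hφ
    exact ⟨⟨ψ, hψ⟩, Subtype.ext (Subtype.ext he.symm)⟩
  have hdef : Cfsg.blockDefect p B' ≤ Cfsg.blockDefect p B₂ := by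
    obtain ⟨_, ⟨ψ, hψ, rfl⟩, hmin⟩ :
        ∃ m ∈ (fun ψ : Cfsg.IrrCharacter T => (Cfsg.charDegree (ψ : T → ℂ)).factorization p) '' B',
          m = sInf ((fun ψ : Cfsg.IrrCharacter T => (Cfsg.charDegree (ψ : T → ℂ)).factorization p) '' B') :=
      ⟨_, Nat.sInf_mem ⟨_, Set.mem_image_of_mem _ hψ₀⟩, rfl⟩
    have hle := Nat.sInf_le (s := (fun φ : Cfsg.IrrCharacter G =>
      (Cfsg.charDegree (φ : G → ℂ)).factorization p) '' B₂)
      ⟨⟨_, hirr ψ hψ⟩, (hiff _).2 ⟨ψ, hψ, rfl⟩, rfl⟩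
    unfold Cfsg.blockDefect
    rw [← hmin]
    simp only [deg_indFun] at hle
    rw [Nat.factorization_mul Subgroup.index_ne_zero_of_finite (deg_irr_pos ψ).ne', Finsupp.add_apply] at hle
    rw [← T.card_mul_index, Nat.factorization_mul Nat.card_pos.ne' Subgroup.index_ne_zero_of_finite,
      Finsupp.add_apply]
    change (Nat.card T).factorization p - (deg (ψ : T → ℂ)).factorization p ≤ _
    omega
  have hlt : Nat.card T < n := lt_of_lt_of_le (lt_of_le_of_ne
    (Nat.card_le_card_of_injective _ Subtype.val_injective)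
    fun he => hTtop (Subgroup.eq_top_of_card_eq T he)) hn
  refine hcard.trans ((ih _ hlt T p M hM B' hB' le_rfl).trans ?_)
  exact Nat.mul_le_mul (Nat.pow_le_pow_right (by norm_num) (by omega)) (Nat.pow_le_pow_right hp.pos hdef)

end Cfsg.Lib.SolvBlockCount
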