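import Mathlib

/-!
A semilinear action on a vector space over a finite field whose kernel acts by scalars fixes a line;
a point of the line has a stabiliser preserving the trace form.
-/

set_option autoImplicit false
set_option linter.unusedSectionVars false
set_option linter.style.haveILetI false

namespace Cfsg.Lib.SolvBlockCount

universe u v

open Finset

variable {K : Type u} [Field K] {V : Type v} [AddCommGroup V] [Module K V]

/-- Linear independence of the powers of an automorphism, with vector coefficients. -/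
theorem twisted_sum_eq_zero (τ : RingAut K) (y : Fin (orderOf τ) → V)
    (h : ∀ l : K, ∑ i : Fin (orderOf τ), ((τ ^ (i : ℕ)) l) • y i = 0) : ∀ i, y i = 0 := by
  let e : Fin (orderOf τ) → (K →* K) := fun i => ((τ ^ (i : ℕ)).toRingHom : K →+* K).toMonoidHom
  have he : Function.Injective e := fun i j hij => by
    have h1 : τ ^ (i : ℕ) = τ ^ (j : ℕ) := RingEquiv.ext fun x => DFunLike.congr_fun hij x
    exact Fin.ext (pow_injOn_Iio_orderOf (x := τ) i.2 j.2 h1)
  have hli : LinearIndependent K (fun i => (e i : K → K)) :=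
    (linearIndependent_monoidHom K K).comp e he
  intro i
  refine (Module.forall_dual_apply_eq_zero_iff K (y i)).1 fun f => ?_
  refine Fintype.linearIndependent_iff.1 hli (fun j => f (y j)) (funext fun l => ?_) i
  have h1 := congrArg f (h l)
  rw [map_sum, map_zero] at h1
  simp only [map_smul, smul_eq_mul] at h1
  rw [Finset.sum_apply, Pi.zero_apply, ← h1]
  exact Finset.sum_congr rfl fun j _ => mul_comm _ _

/-- The norm attached to an automorphism is onto its fixed units. -/
theorem exists_norm_eq [Finite K] (τ : RingAut K) {c : K} (hc : c ≠ 0) (hτc : τ c = c) :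
    ∃ a : K, ∏ i ∈ range (orderOf τ), (τ ^ i) a = c := by
  classical
  haveI : Finite (RingAut K) := Finite.of_injective (fun e : RingAut K => (e : K → K)) DFunLike.coe_injective
  set s := orderOf τ with hs
  have hs0 : 0 < s := orderOf_pos τ
  let T : Kˣ →* Kˣ := Units.map τ.toRingHom.toMonoidHom
  let Φ : Kˣ →* Kˣ := MonoidHom.id Kˣ / T
  let N : Kˣ →* Kˣ := ∏ i ∈ range s, Units.map (τ ^ i).toRingHom.toMonoidHom
  have hN : ∀ a : Kˣ, ((N a : Kˣ) : K) = ∏ i ∈ range s, (τ ^ i) (a : K) := fun a => by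
    simp only [N, MonoidHom.finsetProd_apply, Units.coe_prod]
    exact Finset.prod_congr rfl fun i _ => rfl
  have hstep : ∀ (a : K) (i : ℕ), τ ((τ ^ i) a) = (τ ^ (i + 1)) a := fun a i => by
    rw [pow_succ']; rfl
  have hrange : N.range ≤ Φ.ker := by
    rintro _ ⟨a, rfl⟩
    rw [MonoidHom.mem_ker]
    change N a / T (N a) = 1
    rw [div_eq_one]
    apply Units.ext
    change ((N a : Kˣ) : K) = τ ((N a : Kˣ) : K)
    rw [hN, map_prod]
    simp only [hstep]
    have h1 := (prod_range_succ (fun i => (τ ^ i) (a : K)) s).symm.trans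
      (prod_range_succ' (fun i => (τ ^ i) (a : K)) s)
    rw [hs, pow_orderOf_eq_one, pow_zero, ← hs] at h1
    exact mul_right_cancel₀ a.ne_zero h1
  have hker : N.ker ≤ Φ.range := by
    intro a ha
    have ha' : ∏ i ∈ range s, (τ ^ i) (a : K) = 1 := by
      rw [← hN, MonoidHom.mem_ker.1 ha]; rfl
    let P : ℕ → K := fun i => ∏ j ∈ range i, (τ ^ j) (a : K)
    obtain ⟨l, hl⟩ : ∃ l : K, ∑ i : Fin s, ((τ ^ (i : ℕ)) l) • P i ≠ 0 := by
      by_contra hcon
      push Not at hcon
      have := twisted_sum_eq_zero τ (fun i => P i) hcon ⟨0, hs0⟩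
      exact one_ne_zero (this : P 0 = 0)
    set y := ∑ i : Fin s, ((τ ^ (i : ℕ)) l) • P i with hy
    have hy' : y = ∑ i ∈ range s, (τ ^ i) l * P i := by
      rw [hy, ← Fin.sum_univ_eq_sum_range (fun i => (τ ^ i) l * P i) s]
      rfl
    have hay : (a : K) * τ y = y := by
      rw [hy', map_sum, mul_sum]
      have h1 : ∀ i, (a : K) * τ ((τ ^ i) l * P i) = (τ ^ (i + 1)) l * P (i + 1) := fun i => by
        rw [map_mul, hstep, show P (i + 1) = (∏ j ∈ range i, (τ ^ (j + 1)) (a : K)) * (τ ^ 0) (a : K)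
          from prod_range_succ' _ i, map_prod]
        simp only [hstep, pow_zero, RingAut.one_apply]
        ring
      simp only [h1]
      have h2 := (sum_range_succ (fun i => (τ ^ i) l * P i) s).symm.trans
        (sum_range_succ' (fun i => (τ ^ i) l * P i) s)
      rw [show P s = 1 from ha', show P 0 = 1 from prod_range_zero _, hs, pow_orderOf_eq_one,
        pow_zero, ← hs] at h2
      exact (add_right_cancel h2).symm
    refine ⟨Units.mk0 y hl, ?_⟩
    change Units.mk0 y hl / T (Units.mk0 y hl) = a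
    rw [div_eq_iff_eq_mul]
    exact Units.ext hay.symm
  have h1 := N.ker.card_mul_index
  have h2 := Φ.ker.card_mul_index
  rw [Subgroup.index_ker] at h1 h2
  have h3 := Nat.card_le_card_of_injective _ (Subgroup.inclusion_injective hker)
  have h4 : Nat.card Φ.ker ≤ Nat.card N.range := by
    refine Nat.le_of_mul_le_mul_right ?_ (Nat.card_pos (α := Φ.range))
    rw [h2, ← h1, mul_comm]
    exact Nat.mul_le_mul_left _ h3
  have heq : N.range = Φ.ker := Subgroup.eq_of_le_of_card_ge hrange h4
  have hmem : Units.mk0 c hc ∈ N.range := by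
    rw [heq, MonoidHom.mem_ker]
    change Units.mk0 c hc / T (Units.mk0 c hc) = 1
    rw [div_eq_one]
    exact Units.ext hτc.symm
  obtain ⟨a, ha⟩ := hmem
  exact ⟨a, by rw [← hN, ha]; rfl⟩

/-- The line and the invariant form. -/
theorem exists_form_of_semilinear [Finite K] [Finite V] [Nontrivial V] {A : Type*} [Group A]
    [Finite A] [DistribMulAction A V] (p : ℕ) [Fact p.Prime] (hexp : ∀ v : V, p • v = 0)
    (σ : A →* RingAut K) (hsemi : ∀ (a : A) (k : K) (v : V), a • (k • v) = σ a k • (a • v))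
    (hker : ∀ a : A, σ a = 1 → ∃ c : K, ∀ v : V, a • v = c • v)
    (hirr : ∀ U : AddSubgroup V, (∀ a : A, ∀ v ∈ U, a • v ∈ U) → U = ⊥ ∨ U = ⊤) :
    ∃ (v : V) (β : V →+ V →+ ZMod p), (∀ x, (∀ y, β x y = 0) → x = 0) ∧
      ∀ a : A, a • v = v → ∀ x y, β (a • x) (a • y) = β x y := by
  classical
  obtain ⟨x0, hx0⟩ := exists_ne (0 : V)
  have hp0 : (p : K) = 0 := by
    by_contra h
    exact hx0 ((smul_eq_zero.1 (show (p : K) • x0 = 0 by rw [Nat.cast_smul_eq_nsmul]; exact hexp x0)).resolve_left h)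
  haveI : CharP K p := (CharP.charP_iff_prime_eq_zero Fact.out).2 hp0
  letI : Algebra (ZMod p) K := ZMod.algebra K p
  haveI : Finite (K ≃ₐ[ZMod p] K) := Finite.of_injective _ DFunLike.coe_injective
  let toAlg : RingAut K →* (K ≃ₐ[ZMod p] K) :=
    { toFun := fun r => AlgEquiv.ofRingEquiv (f := r)
        (fun x => RingHom.congr_fun
          (Subsingleton.elim (r.toRingHom.comp (algebraMap (ZMod p) K)) _) x)
      map_one' := AlgEquiv.ext fun _ => rfl
      map_mul' := fun _ _ => AlgEquiv.ext fun _ => rfl }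
  have htoAlg : Function.Injective toAlg := fun r r' h =>
    RingEquiv.ext fun k => AlgEquiv.congr_fun h k
  haveI : IsCyclic σ.range :=
    isCyclic_of_injective (toAlg.comp σ.range.subtype) (htoAlg.comp Subtype.val_injective)
  obtain ⟨⟨τ, g, hg⟩, hgen⟩ := IsCyclic.exists_generator (α := σ.range)
  haveI : Finite (RingAut K) := Finite.of_injective _ htoAlg
  set s := orderOf τ with hs
  have hs0 : 0 < s := orderOf_pos τ
  obtain ⟨c, hc⟩ := hker (g ^ s) (by rw [map_pow, hg, hs, pow_orderOf_eq_one])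
  have hc0 : c ≠ 0 := fun h => hx0 (by
    have h1 := hc x0
    rw [h, zero_smul, smul_eq_zero_iff_eq] at h1
    exact h1)
  have hτc : τ c = c := by
    have h1 : g • g ^ s • x0 = g ^ s • g • x0 := by rw [← mul_smul, ← mul_smul, ← pow_succ', ← pow_succ]
    rw [hc, hc, hsemi, hg] at h1
    exact smul_left_injective K (fun h => hx0 ((smul_eq_zero_iff_eq g).1 h)) h1
  obtain ⟨a, ha⟩ := exists_norm_eq τ (inv_ne_zero hc0) (by rw [map_inv₀, hτc])
  have ha0 : a ≠ 0 := fun h => inv_ne_zero hc0 (by
    rw [← ha, h]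
    exact prod_eq_zero (mem_range.2 hs0) (map_zero _))
  let P : ℕ → K := fun i => ∏ j ∈ range i, (τ ^ j) a
  let E : ℕ → V := fun i => P i • (g ^ i • x0)
  have hE : ∀ i, a • g • E i = E (i + 1) := fun i => by
    change a • g • (P i • (g ^ i • x0)) = P (i + 1) • (g ^ (i + 1) • x0)
    rw [hsemi, hg, smul_smul, ← mul_smul g, ← pow_succ']
    congr 1
    rw [show P (i + 1) = (∏ j ∈ range i, (τ ^ (j + 1)) a) * (τ ^ 0) a from prod_range_succ' _ i,
      map_prod, pow_zero, RingAut.one_apply, mul_comm]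
    congr 1
    exact prod_congr rfl fun j _ => by rw [pow_succ']; rfl
  obtain ⟨l, hl⟩ : ∃ l : K, ∑ i : Fin s, ((τ ^ (i : ℕ)) l) • E i ≠ 0 := by
    by_contra hcon
    push Not at hcon
    have := twisted_sum_eq_zero τ (fun i => E i) hcon ⟨0, hs0⟩
    exact hx0 (by simpa [E, P] using this)
  set w := ∑ i : Fin s, ((τ ^ (i : ℕ)) l) • E i with hw
  have hw' : w = ∑ i ∈ range s, (τ ^ i) l • E i :=
    Fin.sum_univ_eq_sum_range (fun i => (τ ^ i) l • E i) s
  have hgw : a • g • w = w := by
    rw [hw', smul_sum (r := g), smul_sum]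
    have h1 : ∀ i, a • g • ((τ ^ i) l • E i) = (τ ^ (i + 1)) l • E (i + 1) := fun i => by
      rw [hsemi, hg, smul_comm a, hE, pow_succ']
      rfl
    simp only [h1]
    have h2 := (sum_range_succ (fun i => (τ ^ i) l • E i) s).symm.trans
      (sum_range_succ' (fun i => (τ ^ i) l • E i) s)
    have hEs : E s = x0 := by
      change P s • (g ^ s • x0) = x0
      rw [hc, smul_smul, show P s = c⁻¹ from ha, inv_mul_cancel₀ hc0, one_smul]
    have hE0 : E 0 = x0 := by simp [E, P]
    rw [hEs, hE0, hs, pow_orderOf_eq_one, pow_zero, ← hs] at h2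
    exact (add_right_cancel h2).symm
  let L : K →+ V := ((LinearMap.toSpanSingleton K V w).toAddMonoidHom)
  have hLinj : Function.Injective L := fun k k' h => smul_left_injective K hl h
  have hpow : ∀ i : ℕ, ∃ k : K, g ^ i • w = k • w := by
    intro i
    induction i with
    | zero => exact ⟨1, by rw [pow_zero, one_smul, one_smul]⟩
    | succ i ih =>
      obtain ⟨k, hk⟩ := ih
      refine ⟨τ k * a⁻¹, ?_⟩
      have h1 : g • w = a⁻¹ • w := (eq_inv_smul_iff₀ ha0).2 hgw
      rw [pow_succ', mul_smul, hk, hsemi, hg, h1, smul_smul]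
  have hline : ∀ b : A, ∃ k : K, b • w = k • w := by
    intro b
    obtain ⟨i, hi⟩ : σ b ∈ Submonoid.powers τ := by
      rw [mem_powers_iff_mem_zpowers]
      obtain ⟨i, hi⟩ := hgen ⟨σ b, b, rfl⟩
      exact ⟨i, congrArg Subtype.val hi⟩
    simp only at hi
    obtain ⟨d, hd⟩ := hker ((g ^ i)⁻¹ * b) (by rw [map_mul, map_inv, map_pow, hg, hi, inv_mul_cancel])
    obtain ⟨k, hk⟩ := hpow i
    refine ⟨(τ ^ i) d * k, ?_⟩
    have h1 := hd w
    rw [mul_smul, inv_smul_eq_iff, hsemi, map_pow, hg, hk, smul_smul] at h1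
    exact h1
  have htop : L.range = ⊤ := (hirr L.range (by
    rintro b _ ⟨k, rfl⟩
    obtain ⟨k', hk'⟩ := hline b
    refine ⟨σ b k * k', ?_⟩
    change (σ b k * k') • w = b • (k • w)
    rw [hsemi, hk', smul_smul])).resolve_left fun h => hl (by
      have h1 : L 1 ∈ L.range := ⟨1, rfl⟩
      rw [h, AddSubgroup.mem_bot] at h1
      exact (one_smul K w).symm.trans h1)
  let φ : V ≃+ K := (AddEquiv.ofBijective L ⟨hLinj, AddMonoidHom.range_eq_top.1 htop⟩).symm
  have hφ : ∀ x, φ x • w = x := fun x => φ.symm_apply_apply x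
  let β : V →+ V →+ ZMod p := AddMonoidHom.mk' (fun x =>
    (Algebra.trace (ZMod p) K).toAddMonoidHom.comp ((AddMonoidHom.mulLeft (φ x)).comp φ.toAddMonoidHom))
    (fun x x' => by ext y; simp [add_mul])
  refine ⟨w, β, fun x hx => ?_, fun b hb x y => ?_⟩
  · refine φ.injective (((traceForm_nondegenerate (ZMod p) K).1 (φ x) fun k => ?_).trans (map_zero φ).symm)
    have h1 := hx (φ.symm k)
    simpa [β] using h1
  · have hφb : ∀ z, φ (b • z) = σ b (φ z) := fun z => by
      apply hLinj
      change φ (b • z) • w = σ b (φ z) • w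
      rw [hφ]
      conv_lhs => rw [← hφ z]
      rw [hsemi, hb]
    change Algebra.trace (ZMod p) K (φ (b • x) * φ (b • y)) = Algebra.trace (ZMod p) K (φ x * φ y)
    rw [hφb, hφb, ← map_mul]
    exact Algebra.trace_eq_of_algEquiv (toAlg (σ b)) _

end Cfsg.Lib.SolvBlockCount
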