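import Cfsg.Agent.SolvBlockCount.Descent
import Cfsg.Agent.SolvLinear.ModP
import Cfsg.Agent.Coprime.SolvableBasics

/-!
A nilpotent group of coprime order has a vector whose stabiliser preserves a non-degenerate form.
-/

set_option autoImplicit false
set_option linter.unusedSectionVars false
set_option linter.style.haveILetI false

namespace Cfsg.Lib.SolvBlockCount

open Cfsg.Lib.OddBase Cfsg.Lib.SolvLinear Subgroup
open scoped Pointwise

universe u

/-- A maximal abelian normal subgroup of a nilpotent group is its own centraliser. -/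
theorem centralizer_le_of_maxAbelian {A : Type u} [Group A] [Finite A] [Group.IsNilpotent A]
    (Z : Subgroup A) [Z.Normal] [IsMulCommutative Z] (hmax : MaxAbelian Z) :
    centralizer (Z : Set A) ≤ Z := by
  by_contra hne
  set π := QuotientGroup.mk' Z
  haveI : Group.IsNilpotent (A ⧸ Z) := Group.nilpotent_of_surjective π (QuotientGroup.mk'_surjective Z)
  haveI : ((centralizer (Z : Set A)).map π).Normal :=
    Subgroup.Normal.map inferInstance _ (QuotientGroup.mk'_surjective Z)
  have hne' : (centralizer (Z : Set A)).map π ≠ ⊥ := fun h => hne (by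
    rw [Subgroup.map_eq_bot_iff, QuotientGroup.ker_mk'] at h
    exact h)
  obtain ⟨q, hq, hq1⟩ := (Subgroup.ne_bot_iff_exists_ne_one.1
    (Cfsg.Lib.Coprime.inf_center_ne_bot _ hne')).imp fun q hq => And.intro q.2 hq
  obtain ⟨x, hxC, hxq⟩ := Subgroup.mem_map.1 (Subgroup.mem_inf.1 hq).1
  let N : Subgroup A := (Subgroup.zpowers (q : A ⧸ Z)).comap π
  haveI : (Subgroup.zpowers (q : A ⧸ Z)).Normal := ⟨fun y hy g => by
    have hc : Subgroup.zpowers (q : A ⧸ Z) ≤ center (A ⧸ Z) := zpowers_le.2 (Subgroup.mem_inf.1 hq).2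
    rwa [Subgroup.mem_center_iff.1 (hc hy) g, mul_inv_cancel_right]⟩
  have hNab : IsMulCommutative N := by
    have hgen : ∀ n ∈ N, ∃ z ∈ Z, ∃ k : ℤ, n = z * x ^ k := by
      intro n hn
      obtain ⟨k, hk⟩ := Subgroup.mem_zpowers_iff.1 (Subgroup.mem_comap.1 hn)
      refine ⟨n * (x ^ k)⁻¹, ?_, k, by group⟩
      rw [← QuotientGroup.eq_one_iff, QuotientGroup.mk_mul, QuotientGroup.mk_inv]
      change π n * (π (x ^ k))⁻¹ = 1
      rw [map_zpow, hxq, hk, mul_inv_cancel]
    refine ⟨⟨fun a b => Subtype.ext ?_⟩⟩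
    obtain ⟨z, hz, k, hk⟩ := hgen a a.2
    obtain ⟨z', hz', k', hk'⟩ := hgen b b.2
    have c1 : ∀ (m : ℤ) (w : A), w ∈ Z → Commute w (x ^ m) := fun m w hw =>
      Subgroup.mem_centralizer_iff.1 (zpow_mem hxC m) w hw
    have c2 : Commute z z' := congrArg Subtype.val (IsMulCommutative.is_comm.comm (⟨z, hz⟩ : Z) ⟨z', hz'⟩)
    change (a : A) * b = b * a
    rw [hk, hk']
    exact (((c2.mul_right (c1 k' z hz)).mul_left ((c1 k z' hz').symm.mul_right
      (Commute.zpow_zpow_self x k k')))).eq
  have hZN : Z ≤ N := fun z hz => by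
    rw [Subgroup.mem_comap, show π z = 1 from (QuotientGroup.eq_one_iff z).2 hz]
    exact one_mem _
  have := hmax N inferInstance hNab hZN
  apply hq1
  apply Subtype.ext
  change (q : A ⧸ Z) = 1
  rw [← hxq]
  exact (QuotientGroup.eq_one_iff x).2 (this ▸ (Subgroup.mem_comap.2 (by
    rw [hxq]; exact Subgroup.mem_zpowers _)))

variable {A V : Type u} [Group A] [Finite A] [AddCommGroup V] [Finite V] [DistribMulAction A V]

/-- The conclusion. -/
def HasFormVector (A V : Type u) [Group A] [AddCommGroup V] [DistribMulAction A V] (p : ℕ) : Prop :=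
  ∃ (v : V) (β : V →+ V →+ ZMod p), (∀ x, (∀ y, β x y = 0) → x = 0) ∧
    ∀ a : A, a • v = v → ∀ x y, β (a • x) (a • y) = β x y

/-- The primitive case. -/
theorem primitive_case [Group.IsNilpotent A] [Nontrivial V] [FaithfulSMul A V] {p : ℕ} [Fact p.Prime]
    (hexp : ∀ v : V, p • v = 0) (hirr : Irr A V)
    (hidem : ∀ (Z : Subgroup A) [Z.Normal] [IsMulCommutative Z],
      ∀ e ∈ alg A V Z, e * e = e → e = 0 ∨ e = 1) : HasFormVector A V p := by
  classical
  obtain ⟨Z, hZn, hZc, hmax⟩ := exists_maxAbelian A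
  haveI := hZn
  haveI := hZc
  have hf := alg_field hirr (hidem Z)
  haveI : Finite (alg A V Z) := alg_finite
  have hinv : ∀ g : A, act A V g⁻¹ * act A V g = 1 := fun g => by
    rw [← map_mul, inv_mul_cancel, map_one]
  let cj : A → alg A V Z →+* alg A V Z := fun g =>
    { toFun := fun k => ⟨act A V g * k * act A V g⁻¹, alg_conj g k.2⟩
      map_one' := Subtype.ext (by
        change act A V g * 1 * act A V g⁻¹ = 1
        rw [mul_one, ← map_mul, mul_inv_cancel, map_one])
      map_mul' := fun a b => Subtype.ext (by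
        simp only [Subring.coe_mul]
        simp only [mul_assoc]
        rw [← mul_assoc (act A V g⁻¹) (act A V g), hinv, one_mul])
      map_zero' := Subtype.ext (by
        change act A V g * 0 * act A V g⁻¹ = 0
        rw [mul_zero, zero_mul])
      map_add' := fun a b => Subtype.ext (by
        change act A V g * ((a : AddMonoid.End V) + b) * act A V g⁻¹ =
          act A V g * a * act A V g⁻¹ + act A V g * b * act A V g⁻¹
        rw [mul_add, add_mul]) }
  have hcjmul : ∀ g g' k, cj (g * g') k = cj g (cj g' k) := fun g g' k => Subtype.ext (by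
    change act A V (g * g') * k * act A V (g * g')⁻¹ =
      act A V g * (act A V g' * k * act A V g'⁻¹) * act A V g⁻¹
    rw [mul_inv_rev, map_mul, map_mul]
    simp only [mul_assoc])
  have hcj1 : ∀ k, cj 1 k = k := fun k => Subtype.ext (by
    change act A V 1 * (k : AddMonoid.End V) * act A V 1⁻¹ = k
    rw [inv_one, map_one, one_mul, mul_one])
  let σ : A →* RingAut (alg A V Z) := MonoidHom.mk'
    (fun g => RingEquiv.ofRingHom (cj g) (cj g⁻¹)
      (RingHom.ext fun k => by rw [RingHom.comp_apply, ← hcjmul, mul_inv_cancel, hcj1]; rfl)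
      (RingHom.ext fun k => by rw [RingHom.comp_apply, ← hcjmul, inv_mul_cancel, hcj1]; rfl))
    (fun g g' => RingEquiv.ext fun k => hcjmul g g' k)
  refine @exists_form_of_semilinear (alg A V Z) (algField hf) V _ (Module.compHom V (alg A V Z).subtype)
    _ _ _ A _ _ _ p _ hexp σ ?_ ?_ hirr
  · intro a k v
    change a • ((k : AddMonoid.End V) v) = a • ((k : AddMonoid.End V) (a⁻¹ • a • v))
    rw [inv_smul_smul]
  · intro a ha
    have hC : a ∈ centralizer (Z : Set A) := by
      rw [Subgroup.mem_centralizer_iff]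
      intro z hz
      have h1 : act A V a * act A V z * act A V a⁻¹ = act A V z :=
        congrArg Subtype.val (RingEquiv.congr_fun ha ⟨act A V z, mem_alg hz⟩)
      rw [← map_mul, ← map_mul] at h1
      have h2 : a * z * a⁻¹ = z := eq_of_smul_eq_smul fun v : V => DFunLike.congr_fun h1 v
      rw [mul_inv_eq_iff_eq_mul] at h2
      exact h2.symm
    exact ⟨⟨act A V a, mem_alg (centralizer_le_of_maxAbelian Z hmax hC)⟩, fun v => rfl⟩

theorem ind_card_dvd (U : AddSubgroup V) : Nat.card (Ind A U) ∣ Nat.card A :=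
  (Subgroup.card_dvd_of_surjective _ (compHom A U).rangeRestrict_surjective).trans
    (Subgroup.card_subgroup_dvd_card _)

/-- The vector exists. -/
theorem hasFormVector {p : ℕ} [Fact p.Prime] : ∀ (n : ℕ) (A V : Type u) [Group A] [Finite A]
    [Group.IsNilpotent A] [AddCommGroup V] [Finite V] [DistribMulAction A V] [FaithfulSMul A V],
    (∀ v : V, p • v = 0) → ¬ p ∣ Nat.card A → Nat.card V ≤ n → HasFormVector A V p := by
  intro n
  induction n using Nat.strong_induction_on with
  | _ n ih =>
  intro A V _ _ _ _ _ _ _ hexp hco hn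
  classical
  rcases subsingleton_or_nontrivial V with hV | hV
  · exact ⟨0, 0, fun x _ => Subsingleton.elim x 0, fun a _ x y => rfl⟩
  have hrec : ∀ U : AddSubgroup V, Nat.card U < Nat.card V → HasFormVector (Ind A U) U p := by
    intro U hU
    haveI : Group.IsNilpotent (Ind A U) :=
      Group.nilpotent_of_surjective _ (compHom A U).rangeRestrict_surjective
    exact ih _ (lt_of_lt_of_le hU hn) (Ind A U) U (fun x => Subtype.ext (hexp x))
      (fun h => hco (h.trans (ind_card_dvd U))) le_rfl
  by_cases hirr : Irr A V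
  swap
  · simp only [Irr, not_forall, not_or] at hirr
    obtain ⟨U, hU, hU0, hU1⟩ := hirr
    obtain ⟨W, hW, hUW, hsup⟩ := cr_of_coprime Fact.out hexp hco U hU
    have hlt : ∀ T : AddSubgroup V, T ≠ ⊤ → Nat.card T < Nat.card V := fun T hT =>
      lt_of_le_of_ne (Nat.card_le_card_of_injective _ Subtype.val_injective)
        fun he => hT (AddSubgroup.eq_top_of_card_eq T he)
    have hW1 : W ≠ ⊤ := fun h => hU0 (by rw [h, inf_top_eq] at hUW; exact hUW)
    have hst : ∀ T : AddSubgroup V, (∀ a : A, ∀ v ∈ T, a • v ∈ T) → ∀ g : A, g ∈ stab A T := by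
      intro T hT g
      rw [MulAction.mem_stabilizer_iff]
      ext x
      rw [AddSubgroup.mem_pointwise_smul_iff_inv_smul_mem]
      exact ⟨fun h => by simpa using hT g _ h, fun h => hT g⁻¹ x h⟩
    obtain ⟨u, βu, hu, hu'⟩ := hrec U (hlt U hU1)
    obtain ⟨w, βw, hw, hw'⟩ := hrec W (hlt W hW1)
    let L : U × W →+ V := U.subtype.coprod W.subtype
    have hL : Function.Bijective L := by
      refine ⟨(injective_iff_map_eq_zero L).2 ?_, fun v => ?_⟩
      · rintro ⟨x, y⟩ h
        change (x : V) + y = 0 at h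
        have h2 : (x : V) ∈ U ⊓ W := AddSubgroup.mem_inf.2 ⟨x.2, by
          rw [eq_neg_of_add_eq_zero_left h]; exact neg_mem y.2⟩
        rw [hUW, AddSubgroup.mem_bot] at h2
        rw [h2, zero_add] at h
        exact Prod.ext (Subtype.ext h2) (Subtype.ext h)
      · obtain ⟨x, hx, y, hy, h⟩ := AddSubgroup.mem_sup.1 (show v ∈ U ⊔ W from hsup ▸ AddSubgroup.mem_top v)
        exact ⟨(⟨x, hx⟩, ⟨y, hy⟩), h⟩
    let e : V ≃+ U × W := (AddEquiv.ofBijective L hL).symm
    let β : V →+ V →+ ZMod p := AddMonoidHom.mk'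
      (fun x => ((βu (e x).1).coprod (βw (e x).2)).comp e.toAddMonoidHom)
      (fun x x' => by ext y; simp; abel)
    let kU : A → Ind A U := fun a => (compHom A U).rangeRestrict ⟨a, hst U hU a⟩
    let kW : A → Ind A W := fun a => (compHom A W).rangeRestrict ⟨a, hst W hW a⟩
    have hea : ∀ (a : A) (x : V), e (a • x) = (kU a • (e x).1, kW a • (e x).2) := fun a x => by
      apply hL.1
      change L (e (a • x)) = _
      rw [show L (e (a • x)) = a • x from (AddEquiv.ofBijective L hL).apply_symm_apply _]
      conv_lhs => rw [← show L (e x) = x from (AddEquiv.ofBijective L hL).apply_symm_apply _]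
      change a • (((e x).1 : V) + ((e x).2 : V)) = a • ((e x).1 : V) + a • ((e x).2 : V)
      exact smul_add _ _ _
    refine ⟨L (u, w), β, fun x hx => ?_, fun a ha x y => ?_⟩
    · apply e.injective
      rw [map_zero]
      refine Prod.ext (hu _ fun z => ?_) (hw _ fun z => ?_)
      · have := hx (e.symm (z, 0))
        simpa [β] using this
      · have := hx (e.symm (0, z))
        simpa [β] using this
    · have he : e (L (u, w)) = (u, w) := (AddEquiv.ofBijective L hL).symm_apply_apply _
      have h1 := hea a (L (u, w))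
      rw [ha, he] at h1
      change βu (e (a • x)).1 (e (a • y)).1 + βw (e (a • x)).2 (e (a • y)).2 =
        βu (e x).1 (e y).1 + βw (e x).2 (e y).2
      rw [hea, hea, hu' _ (congrArg Prod.fst h1).symm, hw' _ (congrArg Prod.snd h1).symm]
  rcases sys_or_idem hirr with ⟨U, hU, hUlt, -, -⟩ | hidem
  · haveI := Fintype.ofFinite (A ⧸ stab A U)
    obtain ⟨u, βu, hu, hu'⟩ := hrec U hUlt
    let e : V ≃+ (A ⧸ stab A U → U) := (AddEquiv.ofBijective _ (sumMap_bijective hirr hU)).symm
    have he : ∀ f, e (sumMap A U f) = f := fun f =>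
      (AddEquiv.ofBijective _ (sumMap_bijective hirr hU)).symm_apply_apply f
    have he' : ∀ x, sumMap A U (e x) = x := fun x =>
      (AddEquiv.ofBijective _ (sumMap_bijective hirr hU)).apply_symm_apply x
    let β : V →+ V →+ ZMod p := AddMonoidHom.mk'
      (fun x => ∑ q : A ⧸ stab A U, (βu (e x q)).comp ((Pi.evalAddMonoidHom _ q).comp e.toAddMonoidHom))
      (fun x x' => by ext y; simp [Finset.sum_add_distrib])
    have hβ : ∀ x y, β x y = ∑ q, βu (e x q) (e y q) := fun x y => by simp [β]
    refine ⟨sumMap A U (fun _ => u), β, fun x hx => ?_, fun a ha x y => ?_⟩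
    · apply e.injective
      rw [map_zero]
      funext q
      refine hu _ fun z => ?_
      have := hx (sumMap A U (Pi.single q z))
      rw [hβ, he, Finset.sum_eq_single q (fun r _ hr => by rw [Pi.single_eq_of_ne hr, map_zero])
        (by simp), Pi.single_eq_same] at this
      exact this
    · let k : A ⧸ stab A U → Ind A U := fun q =>
        (compHom A U).rangeRestrict ⟨_, cocycle_mem U a (a⁻¹ • q)⟩
      have hea : ∀ x, e (a • x) = fun q => k q • e x (a⁻¹ • q) := fun x => by
        conv_lhs => rw [← he' x, smul_sumMap, he]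
      have hk : ∀ q, k q • u = u := fun q => by
        have h1 := congrFun (hea (sumMap A U fun _ => u)) q
        rw [ha, he] at h1
        exact h1.symm
      rw [hβ, hβ, hea, hea]
      simp only [hu' _ (hk _)]
      exact Equiv.sum_comp (MulAction.toPerm a⁻¹) (fun q => βu (e x q) (e y q))
  · exact primitive_case hexp hirr hidem

end Cfsg.Lib.SolvBlockCount
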