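import Cfsg.Agent.Chars.RelMcKay.Count
import Cfsg.Agent.Blocks.Transport

/-!
# Characters over an invariant character: at most the class number of the quotient
-/

set_option autoImplicit false
set_option linter.unusedSectionVars false
set_option linter.style.haveILetI false

namespace Cfsg.Lib.SolvBlockCount

open Cfsg Cfsg.Lib.Chars Cfsg.Lib.RelMcKay Module Subgroup
open scoped ComplexConjugate

universe u v

attribute [local instance high] Fintype.ofFinite

variable {G : Type u} [Group G] [Finite G] {N : Subgroup G} {V : Type v} [AddCommGroup V]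
  [Module ℂ V] [FiniteDimensional ℂ V] {ρ : Representation ℂ N V} [ρ.IsIrreducible]

/-- The powers of a pairing. -/
theorem pair_pow {x y : G} {c : ℂ} (h : Pair N ρ x y c) (hx : x ∈ stab N ρ) (hy : y ∈ stab N ρ) :
    ∀ k : ℕ, Pair N ρ x (y ^ k) (c ^ k) := by
  intro k
  induction k with
  | zero => rw [pow_zero, pow_zero]; exact pair_mem hx 1
  | succ k ih => rw [pow_succ, pow_succ]; exact ih.mul_right h hx (pow_mem hy k) hy

/-- The pairing has absolute value at most one. -/
theorem norm_pval_le (x y : G) (hx : x ∈ stab N ρ) (hy : y ∈ stab N ρ) :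
    ‖pval N ρ x y‖ ≤ 1 := by
  by_cases hc : Comm N x y
  · obtain ⟨c, -, hpair⟩ := exists_pair hx hy hc
    rw [pval_eq hpair hx hy]
    have h1 := pair_pow hpair hx hy (orderOf y)
    rw [pow_orderOf_eq_one] at h1
    have h2 : c ^ orderOf y = 1 := h1.unique (pair_mem hx 1) hx (one_mem _)
    exact le_of_eq (Complex.norm_eq_one_of_pow_eq_one h2 (orderOf_pos y).ne')
  · rw [pval_eq_zero hc, norm_zero]
    exact zero_le_one

theorem comm_iff_commute [N.Normal] (x y : G) :
    Comm N x y ↔ Commute (x : G ⧸ N) (y : G ⧸ N) := by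
  change x⁻¹ * (y * x * y⁻¹) ∈ N ↔ _
  rw [← QuotientGroup.eq, commute_iff_eq, QuotientGroup.mk_mul, QuotientGroup.mk_mul,
    QuotientGroup.mk_inv, eq_mul_inv_iff_mul_eq]

theorem card_comm_pairs [N.Normal] :
    Nat.card {p : G × G // Comm N p.1 p.2} =
      Nat.card N * Nat.card G * Nat.card (ConjClasses (G ⧸ N)) := by
  classical
  let e := Subgroup.groupEquivQuotientProdSubgroup (s := N)
  let e2 : G × G ≃ ((G ⧸ N) × (G ⧸ N)) × (N × N) :=
    (e.prodCongr e).trans (Equiv.prodProdProdComm _ _ _ _)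
  have hfst : ∀ g : G, (e g).1 = (g : G ⧸ N) := fun g => rfl
  have h1 : Nat.card {p : G × G // Comm N p.1 p.2} =
      Nat.card ({q : (G ⧸ N) × (G ⧸ N) // Commute q.1 q.2} × (N × N)) := by
    refine Nat.card_congr ((e2.subtypeEquiv (q := fun t => Commute t.1.1 t.1.2) fun p => ?_).trans ?_)
    · rw [comm_iff_commute]
      exact Iff.rfl
    · exact Equiv.prodSubtypeFstEquivSubtypeProd
        (p := fun q : (G ⧸ N) × (G ⧸ N) => Commute q.1 q.2)
  rw [h1, Nat.card_prod, Nat.card_prod, card_comm_eq_card_conjClasses_mul_card,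
    Subgroup.card_eq_card_quotient_mul_card_subgroup N]
  ring

/-- At most as many characters lie over an invariant character as the quotient has classes. -/
theorem card_over_le [N.Normal] (θ : IrrCharacter N)
    (hinv : ∀ (g : G) (n : N),
      (θ : N → ℂ) ⟨g * n * g⁻¹, (inferInstance : N.Normal).conj_mem n n.2 g⟩ = (θ : N → ℂ) n) :
    Nat.card {χ : IrrCharacter G // classInner (fun n : N => (χ : G → ℂ) n) (θ : N → ℂ) ≠ 0} ≤
      Nat.card (ConjClasses (G ⧸ N)) := by
  classical
  obtain ⟨m, ρ, hρ, he⟩ := θ.2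
  haveI := hρ
  have hst : ∀ g : G, g ∈ stab N ρ := fun g => by
    refine mem_stab_of_character (by rw [Subgroup.normalizer_eq_top]; exact Subgroup.mem_top g)
      fun n n' hn => ?_
    rw [he, show n' = ⟨g * n * g⁻¹, (inferInstance : N.Normal).conj_mem n n.2 g⟩ from Subtype.ext hn]
    exact hinv g n
  have hH : (⊤ : Subgroup G) ≤ stab N ρ := fun g _ => hst g
  have key := card_over_mul_eq N ρ ⊤ le_top hH
  rw [he] at key
  have hc : Nat.card {χ : IrrCharacter (⊤ : Subgroup G) //
      classInner (fun k : N => (χ : (⊤ : Subgroup G) → ℂ) (inclusion le_top k)) (θ : N → ℂ) ≠ 0} =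
      Nat.card {χ : IrrCharacter G // classInner (fun n : N => (χ : G → ℂ) n) (θ : N → ℂ) ≠ 0} := by
    let f := Subgroup.topEquiv (G := G)
    refine Nat.card_congr (Equiv.subtypeEquiv (Cfsg.Lib.Blocks.irrEquiv f) fun χ => ?_).symm
    rfl
  set k := Nat.card {χ : IrrCharacter G // classInner (fun n : N => (χ : G → ℂ) n) (θ : N → ℂ) ≠ 0}
    with hk
  rw [hc] at key
  have h1 : ((k * Nat.card G * Nat.card N : ℕ) : ℝ) ≤
      ((Nat.card {p : G × G // Comm N p.1 p.2} : ℕ) : ℝ) := by
    have h2 := congrArg (fun z : ℂ => ‖z‖) key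
    simp only [norm_mul, Complex.norm_natCast, Subgroup.card_top] at h2
    push_cast
    rw [h2]
    refine (norm_sum_le _ _).trans ?_
    refine (Finset.sum_le_sum fun g _ => norm_sum_le _ _).trans ?_
    rw [show (Nat.card {p : G × G // Comm N p.1 p.2} : ℝ) =
      ∑ g : (⊤ : Subgroup G), ∑ h : (⊤ : Subgroup G), if Comm N (g : G) h then (1 : ℝ) else 0 by
        rw [Nat.card_eq_fintype_card, Fintype.card_subtype, ← Finset.sum_boole]
        refine Eq.trans ?_ ((Fintype.sum_prod_type (fun p : G × G => if Comm N p.1 p.2 then (1 : ℝ) else 0)).trans ?_)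
        · convert rfl
        exact Fintype.sum_equiv Subgroup.topEquiv.symm.toEquiv _ _ fun g =>
          Fintype.sum_equiv Subgroup.topEquiv.symm.toEquiv _ _ fun h => rfl]
    refine Finset.sum_le_sum fun g _ => Finset.sum_le_sum fun h _ => ?_
    split_ifs with hc
    · exact norm_pval_le _ _ (hst _) (hst _)
    · rw [pval_eq_zero hc, norm_zero]
  have h3 : k * Nat.card G * Nat.card N ≤ Nat.card N * Nat.card G * Nat.card (ConjClasses (G ⧸ N)) := by
    rw [← card_comm_pairs]
    exact_mod_cast h1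
  refine Nat.le_of_mul_le_mul_left ?_ (Nat.mul_pos (Nat.card_pos (α := N)) (Nat.card_pos (α := G)))
  calc Nat.card N * Nat.card G * k = k * Nat.card G * Nat.card N := by ring
    _ ≤ _ := h3

end Cfsg.Lib.SolvBlockCount
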